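import Mathlib
import Groth.Agent.WeakAss.Basic

/-!
# Weakly associated primes under finite flat ring maps
-/

set_option autoImplicit false
universe u
open TensorProduct FlatCA

namespace Groth.Agent.WeakAssFlat

variable {A B : Type u} [CommRing A] [CommRing B] [Algebra A B] {M : Type u} [AddCommGroup M]
  [Module A M]

/-- `z` is killed, up to an element outside `u`, by a power of `x`. -/
def Killed {N : Type*} [AddCommGroup N] [Module B N] (u : Ideal B) (z : N) (x : B) : Prop :=
  ∃ s ∉ u, ∃ n : ℕ, s • x ^ n • z = 0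

theorem killed_of_mem_map {N : Type*} [AddCommGroup N] [Module B N] (u : Ideal B) [u.IsPrime]
    (z : N) (p : Ideal A) (h : ∀ a ∈ p, Killed u z (algebraMap A B a)) (x : B)
    (hx : x ∈ p.map (algebraMap A B)) : Killed u z x := by
  rw [Ideal.map] at hx
  induction hx using Submodule.span_induction with
  | mem y hy => obtain ⟨a, ha, rfl⟩ := hy; exact h a ha
  | zero => exact ⟨1, fun h => ‹u.IsPrime›.ne_top ((Ideal.eq_top_iff_one _).2 h), 1, by simp⟩
  | add y y' _ _ hy hy' =>
    obtain ⟨s, hs, n, hn⟩ := hy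
    obtain ⟨s', hs', n', hn'⟩ := hy'
    refine ⟨s * s', fun h => (‹u.IsPrime›.mem_or_mem h).elim hs hs', n + n', ?_⟩
    rw [← mul_smul, add_pow, Finset.mul_sum, Finset.sum_smul]
    refine Finset.sum_eq_zero fun k _ => ?_
    by_cases hk : n ≤ k
    · have e1 : s * s' * (y ^ k * y' ^ (n + n' - k) * ((n + n').choose k : B)) =
          (s' * y ^ (k - n) * y' ^ (n + n' - k) * ((n + n').choose k : B)) * (s * y ^ n) := by
        conv_lhs => rw [← Nat.sub_add_cancel hk, pow_add]
        rw [Nat.sub_add_cancel hk]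
        ring
      rw [e1, mul_smul, mul_smul s, hn, smul_zero]
    · have hle : n' ≤ n + n' - k := by omega
      have e1 : s * s' * (y ^ k * y' ^ (n + n' - k) * ((n + n').choose k : B)) =
          (s * y ^ k * y' ^ (n + n' - k - n') * ((n + n').choose k : B)) * (s' * y' ^ n') := by
        conv_lhs => rw [← Nat.sub_add_cancel hle, pow_add]
        ring
      rw [e1, mul_smul, mul_smul s', hn', smul_zero]
  | smul c y _ hy =>
    obtain ⟨s, hs, n, hn⟩ := hy
    refine ⟨s, hs, n, ?_⟩
    rw [smul_eq_mul, mul_pow, mul_smul (c ^ n), smul_comm s (c ^ n), hn, smul_zero]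

theorem vanishesTrivially_of_flat [Module.Flat A B] {ι : Type*} [Fintype ι] (b : ι → B) (m : ι → M)
    (h : ∑ i, b i ⊗ₜ[A] m i = 0) : TensorProduct.VanishesTrivially A m b := by
  refine TensorProduct.vanishesTrivially_of_sum_tmul_eq_zero_of_rTensor_injective A
    (Module.Flat.rTensor_preserves_injective_linearMap _ (Submodule.injective_subtype _)) ?_
  simpa [map_sum] using congrArg (TensorProduct.comm A B M) h

theorem mem_weakAss_tensor_of_mem [Module.Flat A B] (p : Ideal A) (u : Ideal B) [u.IsPrime]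
    [u.LiesOver p]
    (hmin : ∀ q : Ideal B, q.IsPrime → p.map (algebraMap A B) ≤ q → q ≤ u → u ≤ q)
    (hp : p ∈ weakAss A M) : u ∈ weakAss B (B ⊗[A] M) := by
  obtain ⟨hpp, m, h1, h2⟩ := WeakAss.mem_weakAss_iff.1 hp
  rw [WeakAss.mem_weakAss_iff]
  refine ⟨inferInstance, (1 : B) ⊗ₜ m, fun b hb => ?_, fun r hr => ?_⟩
  · obtain ⟨k, a, y, hy, ha⟩ := vanishesTrivially_of_flat (fun _ : Fin 1 => b) (fun _ => m)
      (by simpa [smul_tmul'] using hb)
    rw [show b = ∑ j, a 0 j • y j from hy 0]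
    refine sum_mem fun j _ => ?_
    rw [Algebra.smul_def]
    exact Ideal.mul_mem_right _ _ ((u.mem_of_liesOver p _).1 (h1 _ (by simpa using ha j)))
  · obtain ⟨q, hq⟩ : ∃ x : B, x ∉ u ∧ ∃ n : ℕ, x * r ^ n ∈ p.map (algebraMap A B) := by
      by_contra hne
      push_neg at hne
      obtain ⟨q, hq, hIq, hqd⟩ := Ideal.exists_le_prime_disjoint (p.map (algebraMap A B))
        (u.primeCompl ⊔ Submonoid.powers r) (by
          rw [Set.disjoint_left]
          intro a ha ha'
          obtain ⟨s, hs, _, ⟨n, rfl⟩, rfl⟩ := Submonoid.mem_sup.mp ha'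
          exact hne s hs n ha)
      rw [Set.disjoint_left] at hqd
      have hqu : q ≤ u := fun a ha => by
        by_contra h
        exact hqd ha (Submonoid.mem_sup_left h)
      exact hqd (hmin q hq hIq hqu hr) (Submonoid.mem_sup_right (Submonoid.mem_powers r))
    obtain ⟨hqu, n, hn⟩ := hq
    obtain ⟨s, hs, N, hN⟩ := killed_of_mem_map u ((1 : B) ⊗ₜ[A] m) p (fun a ha => by
      obtain ⟨s, hs, n, hn⟩ := h2 a ha
      refine ⟨algebraMap A B s, fun h => hs ((u.mem_of_liesOver p _).2 h), n, ?_⟩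
      rw [← map_pow, algebraMap_smul, algebraMap_smul, ← tmul_smul, ← tmul_smul, hn, tmul_zero]) _ hn
    refine ⟨s * q ^ N, fun h => (‹u.IsPrime›.mem_or_mem h).elim hs
      (fun h => hqu (‹u.IsPrime›.mem_of_pow_mem _ h)), n * N, ?_⟩
    rw [pow_mul, mul_smul, ← mul_smul (q ^ N), ← mul_pow, hN]

theorem eq_of_le_of_liesOver [Algebra.IsIntegral A B] {p : Ideal A} {q q' : Ideal B} [q.IsPrime]
    [q.LiesOver p] [q'.LiesOver p] (h : q ≤ q') : q' ≤ q := by
  intro x hx
  by_contra hxq
  have := Ideal.comap_lt_comap_of_integral_mem_sdiff h ⟨hx, hxq⟩ (Algebra.IsIntegral.isIntegral (R := A) x)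
  exact this.ne (by rw [← Ideal.under_def, ← Ideal.under_def, ← Ideal.over_def q p, ← Ideal.over_def q' p])

theorem exists_mul_eq_algebraMap [Algebra.IsIntegral A B] (p : Ideal A) [p.IsPrime] (v : B)
    (hv : ∀ q : Ideal B, q.IsPrime → q.comap (algebraMap A B) = p → v ∉ q) :
    ∃ t ∉ p, ∃ b : B, b * v = algebraMap A B t := by
  by_contra hne
  push_neg at hne
  obtain ⟨I, hI, hle, hdis⟩ := Ideal.exists_le_prime_disjoint (Ideal.span {v})
    (p.primeCompl.map (algebraMap A B).toMonoidHom) (by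
      rw [Set.disjoint_left]
      rintro _ hx ⟨t, ht, rfl⟩
      obtain ⟨b, hb⟩ := Ideal.mem_span_singleton'.1 hx
      exact hne t ht b hb)
  haveI := hI
  have hIp : I.comap (algebraMap A B) ≤ p := fun a ha => by
    by_contra hap
    exact Set.disjoint_left.1 hdis ha ⟨a, hap, rfl⟩
  obtain ⟨Q, hQI, hQ, hQp⟩ := Ideal.exists_ideal_over_prime_of_isIntegral_of_isPrime p I hIp
  exact hv Q hQ hQp (hQI (hle (Ideal.subset_span rfl)))

/-- A family that is minimal generating near `p`. -/
theorem exists_local_gen [Module.Finite A B] (p : Ideal A) [p.IsPrime] :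
    ∃ (m : ℕ) (b : Fin m → B) (g : A), g ∉ p ∧ (∀ x : B, g • x ∈ Submodule.span A (Set.range b)) ∧
      ∀ c : Fin m → A, ∑ i, c i • b i = 0 → ∀ i, c i ∈ p := by
  classical
  obtain ⟨m0, b0, hb0⟩ := Submodule.fg_iff_exists_fin_generating_family.1
    (Module.Finite.fg_top (R := A) (M := B))
  have hex : ∃ m, ∃ (b : Fin m → B) (g : A), g ∉ p ∧ ∀ x : B, g • x ∈ Submodule.span A (Set.range b) :=
    ⟨m0, b0, 1, fun h => ‹p.IsPrime›.ne_top ((Ideal.eq_top_iff_one _).2 h),
      fun x => by rw [hb0]; exact Submodule.mem_top⟩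
  obtain ⟨b, g, hg, hgen⟩ := Nat.find_spec hex
  generalize hm : Nat.find hex = m at b hgen
  have hmin : ∀ k < m, ¬ ∃ (b : Fin k → B) (g : A), g ∉ p ∧
      ∀ x : B, g • x ∈ Submodule.span A (Set.range b) :=
    fun k hk => Nat.find_min hex (hm.symm ▸ hk)
  refine ⟨m, b, g, hg, hgen, fun c hc i => ?_⟩
  by_contra hci
  obtain ⟨m', rfl⟩ : ∃ m', m = m' + 1 := ⟨m - 1, by have := i.pos; omega⟩
  refine hmin m' (by omega) ⟨fun k => b (i.succAbove k), c i * g,
    fun h => (‹p.IsPrime›.mem_or_mem h).elim hci hg, fun x => ?_⟩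
  rw [mul_smul]
  rw [Fin.sum_univ_succAbove _ i] at hc
  have hbi : c i • b i ∈ Submodule.span A (Set.range fun k => b (i.succAbove k)) := by
    rw [eq_neg_of_add_eq_zero_left hc]
    exact neg_mem (sum_mem fun k _ => Submodule.smul_mem _ _ (Submodule.subset_span ⟨k, rfl⟩))
  have hall : ∀ z ∈ Submodule.span A (Set.range b),
      c i • z ∈ Submodule.span A (Set.range fun k => b (i.succAbove k)) := by
    intro z hz
    induction hz using Submodule.span_induction with
    | mem w hw =>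
      obtain ⟨k, rfl⟩ := hw
      obtain rfl | hk := eq_or_ne k i
      · exact hbi
      · obtain ⟨k', rfl⟩ := Fin.exists_succAbove_eq hk
        exact Submodule.smul_mem _ _ (Submodule.subset_span ⟨k', rfl⟩)
    | zero => simp
    | add a b _ _ ha hb => rw [smul_add]; exact add_mem ha hb
    | smul a b _ hb => rw [smul_comm]; exact Submodule.smul_mem _ _ hb
  exact hall _ (hgen x)

/-- Coordinates of a vanishing tensor are killed near `p`. -/
theorem exists_kill_coord [Module.Flat A B] (p : Ideal A) [p.IsPrime] {k : ℕ} {b : Fin k → B}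
    {g : A} (hg : g ∉ p) (hgen : ∀ x : B, g • x ∈ Submodule.span A (Set.range b))
    (hirr : ∀ c : Fin k → A, ∑ i, c i • b i = 0 → ∀ i, c i ∈ p) (m : Fin k → M)
    (h : ∑ i, b i ⊗ₜ[A] m i = 0) : ∃ t ∉ p, ∀ i, t • m i = 0 := by
  classical
  obtain ⟨l, a, y, hy, ha⟩ := vanishesTrivially_of_flat b m h
  have hd := fun j => Submodule.mem_span_range_iff_exists_fun A |>.1 (hgen (y j))
  choose d hd using hd
  let C : Matrix (Fin k) (Fin k) A := Matrix.of fun i l' => ∑ j, a i j * d j l'
  have hC : ∀ i, ∑ l', C i l' • b l' = g • b i := by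
    intro i
    simp only [C, Matrix.of_apply, Finset.sum_smul, mul_smul]
    rw [Finset.sum_comm]
    simp only [← Finset.smul_sum, hd]
    rw [hy i, Finset.smul_sum]
    exact Finset.sum_congr rfl fun j _ => smul_comm _ _ _
  have hCp : ∀ i l', C i l' - (if i = l' then g else 0) ∈ p := by
    intro i
    refine hirr _ ?_
    simp [sub_smul, hC i]
  have hm : ∀ l', ∑ i, C i l' • m i = 0 := by
    intro l'
    simp only [C, Matrix.of_apply, Finset.sum_smul]
    rw [Finset.sum_comm]
    refine Finset.sum_eq_zero fun j _ => ?_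
    simp only [mul_comm (a _ j), mul_smul, ← Finset.smul_sum, ha j, smul_zero]
  refine ⟨C.transpose.det, ?_, fun i => ?_⟩
  · rw [← Ideal.Quotient.eq_zero_iff_mem, RingHom.map_det]
    have : (Ideal.Quotient.mk p).mapMatrix C.transpose = Matrix.diagonal fun _ => Ideal.Quotient.mk p g := by
      ext i j
      have := Ideal.Quotient.eq.2 (hCp j i)
      simp only [RingHom.mapMatrix_apply, Matrix.map_apply, Matrix.transpose_apply, this,
        Matrix.diagonal_apply]
      rcases eq_or_ne i j with rfl | hij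
      · simp
      · simp [hij, hij.symm]
    rw [this, Matrix.det_diagonal, Finset.prod_const]
    intro h0
    exact hg (Ideal.Quotient.eq_zero_iff_mem.1 (pow_eq_zero_iff'.1 h0).1)
  · have h1 : ∑ l', C.transpose.adjugate i l' • ∑ i', C.transpose l' i' • m i' = 0 :=
      Finset.sum_eq_zero fun l' _ => by simp [Matrix.transpose_apply, hm l']
    simp only [Finset.smul_sum, ← mul_smul] at h1
    rw [Finset.sum_comm] at h1
    simp only [← Finset.sum_smul, ← Matrix.mul_apply, Matrix.adjugate_mul, Matrix.smul_apply,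
      Matrix.one_apply, smul_eq_mul, mul_ite, mul_one, mul_zero, ite_smul, zero_smul,
      Finset.sum_ite_eq, Finset.mem_univ, if_true] at h1
    exact h1

theorem weakAss_of_mem_tensor [Module.Finite A B] [Module.Flat A B] (p : Ideal A) [p.IsPrime]
    (u : Ideal B) [u.IsPrime] [u.LiesOver p] (hu : u ∈ weakAss B (B ⊗[A] M)) :
    p ∈ weakAss A M := by
  classical
  obtain ⟨-, z, h1, h2⟩ := WeakAss.mem_weakAss_iff.1 hu
  have up : u.comap (algebraMap A B) = p := Ideal.ext fun a => (u.mem_of_liesOver p a).symm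
  have hfin : (p.primesOver B).Finite := Algebra.QuasiFinite.finite_primesOver p
  let others : Finset (Ideal B) := hfin.toFinset.erase u
  have hmemP : ∀ q : Ideal B, q.IsPrime → q.comap (algebraMap A B) = p → q ≠ u → q ∈ others :=
    fun q hq hqp hne => Finset.mem_erase.2 ⟨hne, hfin.mem_toFinset.2 ⟨hq, ⟨hqp.symm⟩⟩⟩
  have hoth : ∀ q ∈ others, q.IsPrime ∧ q.LiesOver p ∧ q ≠ u := fun q hq =>
    ⟨(hfin.mem_toFinset.1 (Finset.mem_of_mem_erase hq)).1,
      (hfin.mem_toFinset.1 (Finset.mem_of_mem_erase hq)).2, Finset.ne_of_mem_erase hq⟩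
  have hnle : ∀ q ∈ others, ¬ q ≤ u ∧ ¬ u ≤ q := by
    intro q hq
    obtain ⟨hqp, hql, hne⟩ := hoth q hq
    exact ⟨fun h => hne (le_antisymm h (eq_of_le_of_liesOver (p := p) h)),
      fun h => hne (le_antisymm (eq_of_le_of_liesOver (p := p) h) h)⟩
  have he' : ∀ q ∈ others, ∃ x, x ∈ q ∧ x ∉ u := fun q hq => SetLike.not_le_iff_exists.1 (hnle q hq).1
  choose! x hxq hxu using he'
  let e := ∏ q ∈ others, x q
  have heu : e ∉ u := fun h => by
    obtain ⟨q, hq, hq'⟩ := (Ideal.IsPrime.prod_mem_iff).1 h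
    exact hxu q hq hq'
  have heq : ∀ q ∈ others, e ∈ q := fun q hq => Ideal.prod_mem _ hq (hxq q hq)
  obtain ⟨f, hfu, hfq⟩ : ∃ f ∈ u, ∀ q ∈ others, f ∉ q := by
    by_contra hne
    push_neg at hne
    have hsub : (u : Set B) ⊆ ⋃ q ∈ (↑others : Set (Ideal B)), (q : Set B) := fun a ha => by
      obtain ⟨q, hq, haq⟩ := hne a ha
      exact Set.mem_biUnion hq haq
    obtain ⟨q, hq, hle⟩ := (Ideal.subset_union_prime u u (fun q hq _ _ => (hoth q hq).1)).1 hsub
    exact (hnle q hq).2 hle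
  obtain ⟨t, ht, K, hK⟩ : ∃ t ∉ p, ∃ K : ℕ,
      algebraMap A B t * (e * f) ^ K ∈ p.map (algebraMap A B) := by
    by_contra hne
    push_neg at hne
    obtain ⟨q, hq, hIq, hqd⟩ := Ideal.exists_le_prime_disjoint (p.map (algebraMap A B))
      (p.primeCompl.map (algebraMap A B).toMonoidHom ⊔ Submonoid.powers (e * f)) (by
        rw [Set.disjoint_left]
        intro a ha ha'
        obtain ⟨_, ⟨s, hs, rfl⟩, _, ⟨n, rfl⟩, rfl⟩ := Submonoid.mem_sup.mp ha'
        exact hne s hs n ha)
    rw [Set.disjoint_left] at hqd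
    have hqp : q.comap (algebraMap A B) = p := le_antisymm (fun a ha => by
      by_contra hap
      exact hqd ha (Submonoid.mem_sup_left ⟨a, hap, rfl⟩)) (Ideal.map_le_iff_le_comap.1 hIq)
    refine hqd (?_ : e * f ∈ q) (Submonoid.mem_sup_right (Submonoid.mem_powers _))
    obtain rfl | hne' := eq_or_ne q u
    · exact Ideal.mul_mem_left _ _ hfu
    · exact Ideal.mul_mem_right _ _ (heq q (hmemP q hq hqp hne'))
  obtain ⟨s0, hs0, N, hN⟩ := killed_of_mem_map u z p
    (fun a ha => h2 _ ((u.mem_of_liesOver p a).1 ha)) _ hK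
  let z3 : B ⊗[A] M := (e ^ (K * N) * (s0 * algebraMap A B t ^ N)) • z
  have hz3 : ∀ r : A, r • z3 = 0 → r ∈ p := by
    intro r hr
    rw [← algebraMap_smul B r, ← mul_smul] at hr
    have h3 := h1 _ hr
    refine (u.mem_of_liesOver p r).2 ((‹u.IsPrime›.mem_or_mem h3).resolve_right fun h4 => ?_)
    rcases ‹u.IsPrime›.mem_or_mem h4 with h5 | h5
    · exact heu (‹u.IsPrime›.mem_of_pow_mem _ h5)
    · rcases ‹u.IsPrime›.mem_or_mem h5 with h6 | h6
      · exact hs0 h6
      · exact ht ((u.mem_of_liesOver p t).2 (‹u.IsPrime›.mem_of_pow_mem _ h6))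
  have hkill : ∀ a ∈ p, ∃ t' ∉ p, ∃ n : ℕ, (t' * a ^ n) • z3 = 0 := by
    intro a ha
    obtain ⟨s, hs, n, hn⟩ := h2 _ ((u.mem_of_liesOver p a).1 ha)
    obtain ⟨t', ht', b', hb'⟩ := exists_mul_eq_algebraMap p (e * s + f) (fun q hq hqp hmem => by
      obtain rfl | hne' := eq_or_ne q u
      · exact (hq.mem_or_mem ((Ideal.add_mem_iff_left _ hfu).1 hmem)).elim heu hs
      · have hq' := hmemP q hq hqp hne'
        exact hfq q hq' ((Ideal.add_mem_iff_right _ (Ideal.mul_mem_right _ _ (heq q hq'))).1 hmem))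
    let w : B ⊗[A] M := ((s0 * algebraMap A B t ^ N) * algebraMap A B a ^ n) • z
    have hw : (e * s + f) • w = f • w := by
      rw [add_smul, show (e * s) • w = 0 by
        rw [← mul_smul, show e * s * (s0 * algebraMap A B t ^ N * algebraMap A B a ^ n) =
          (e * (s0 * algebraMap A B t ^ N)) * (s * algebraMap A B a ^ n) by ring, mul_smul,
          mul_smul s, hn, smul_zero], zero_add]
    have hj : ∀ j : ℕ, (e * s + f) ^ j • w = f ^ j • w := by
      intro j
      induction j with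
      | zero => simp
      | succ j ih => rw [pow_succ', mul_smul, ih, smul_comm, hw, ← mul_smul, ← pow_succ]
    have h0 : (e * f) ^ (K * N) • w = 0 := by
      rw [← mul_smul, show (e * f) ^ (K * N) * (s0 * algebraMap A B t ^ N * algebraMap A B a ^ n) =
        algebraMap A B a ^ n * (s0 * (algebraMap A B t * (e * f) ^ K) ^ N) by ring, mul_smul,
        mul_smul s0, hN, smul_zero]
    refine ⟨t' ^ (K * N), fun h => ht' (‹p.IsPrime›.mem_of_pow_mem _ h), n, ?_⟩
    rw [← algebraMap_smul B, map_mul, map_pow, map_pow, ← hb', ← mul_smul,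
      show (b' * (e * s + f)) ^ (K * N) * algebraMap A B a ^ n *
          (e ^ (K * N) * (s0 * algebraMap A B t ^ N)) =
        (b' ^ (K * N) * e ^ (K * N)) * ((e * s + f) ^ (K * N) *
          (s0 * algebraMap A B t ^ N * algebraMap A B a ^ n)) by rw [mul_pow b']; ring,
      mul_smul, mul_smul ((e * s + f) ^ (K * N)), hj, ← mul_smul, mul_assoc, ← mul_pow, mul_smul, h0,
      smul_zero]
  obtain ⟨k, b, g, hg, hgen, hirr⟩ := exists_local_gen (B := B) p
  obtain ⟨m, hm⟩ : ∃ m : Fin k → M, g • z3 = ∑ i, b i ⊗ₜ[A] m i := by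
    clear_value z3
    clear hz3 hkill
    induction z3 using TensorProduct.induction_on with
    | zero => exact ⟨0, by simp⟩
    | tmul y y' =>
      obtain ⟨c, hc⟩ := (Submodule.mem_span_range_iff_exists_fun A).1 (hgen y)
      refine ⟨fun i => c i • y', ?_⟩
      rw [smul_tmul', ← hc, sum_tmul]
      exact Finset.sum_congr rfl fun i _ => by rw [smul_tmul]
    | add y y' hy hy' =>
      obtain ⟨m, hm⟩ := hy
      obtain ⟨m', hm'⟩ := hy'
      exact ⟨m + m', by rw [smul_add, hm, hm', ← Finset.sum_add_distrib]; simp [tmul_add]⟩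
  obtain ⟨i, hi⟩ : ∃ i, ∀ r : A, r • m i = 0 → r ∈ p := by
    by_contra hne
    push_neg at hne
    choose r hr hrp using hne
    have h3 : ((∏ i, r i) * g) • z3 = 0 := by
      rw [mul_smul, hm, Finset.smul_sum]
      refine Finset.sum_eq_zero fun i _ => ?_
      rw [← tmul_smul, ← Finset.prod_erase_mul _ _ (Finset.mem_univ i), mul_smul, hr i, smul_zero,
        tmul_zero]
    rcases ‹p.IsPrime›.mem_or_mem (hz3 _ h3) with h4 | h4
    · obtain ⟨i, -, h5⟩ := (Ideal.IsPrime.prod_mem_iff).1 h4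
      exact hrp i h5
    · exact hg h4
  refine WeakAss.mem_weakAss_iff.2 ⟨inferInstance, m i, hi, fun a ha => ?_⟩
  obtain ⟨t', ht', n, hn⟩ := hkill a ha
  obtain ⟨D, hD, hD'⟩ := exists_kill_coord p hg hgen hirr (fun i => (t' * a ^ n) • m i) (by
    simp only [tmul_smul]
    rw [← Finset.smul_sum, ← hm, smul_comm, hn, smul_zero])
  exact ⟨D * t', fun h => (‹p.IsPrime›.mem_or_mem h).elim hD ht', n, by
    rw [mul_smul, ← mul_smul t']; exact hD' i⟩

theorem mem_weakAss_iff_of_finite_flat [Module.Finite A B] [Module.Flat A B] (p : Ideal A)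
    [p.IsPrime] (u : Ideal B) [u.IsPrime] [u.LiesOver p] :
    u ∈ weakAss B (B ⊗[A] M) ↔ p ∈ weakAss A M := by
  refine ⟨weakAss_of_mem_tensor p u, mem_weakAss_tensor_of_mem p u fun q hq hle hqu => ?_⟩
  haveI := hq
  haveI : q.LiesOver p := ⟨le_antisymm (Ideal.map_le_iff_le_comap.1 hle)
    fun a ha => (u.mem_of_liesOver p a).2 (hqu ha)⟩
  exact eq_of_le_of_liesOver (p := p) hqu

end Groth.Agent.WeakAssFlat
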