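import Groth.Agent.WeakAssFlat.Basic

/-!
# Weakly associated primes under etale ring maps
-/

set_option autoImplicit false
universe u
open TensorProduct FlatCA

namespace Groth.Agent.WeakAssFlat

variable {A : Type u} [CommRing A] {M : Type u} [AddCommGroup M] [Module A M]

theorem mem_weakAss_tensor_localization {C L : Type u} [CommRing C] [CommRing L] [Algebra A C]
    [Algebra A L] [Algebra C L] [IsScalarTower A C L] (S : Submonoid C) [IsLocalization S L]
    (w : Ideal C) [w.IsPrime] (hS : Disjoint (S : Set C) (w : Set C)) :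
    w ∈ weakAss C (C ⊗[A] M) ↔ w.map (algebraMap C L) ∈ weakAss L (L ⊗[A] M) :=
  WeakAss.mem_weakAss_iff_map_mem S
    (TensorProduct.AlgebraTensorModule.rTensor A M (Algebra.linearMap C L)) ‹w.IsPrime› hS

theorem mem_weakAss_iff_of_etale {B : Type u} [CommRing B] [Algebra A B] [Algebra.Etale A B]
    (p : Ideal A) [p.IsPrime] (u : Ideal B) [u.IsPrime] [u.LiesOver p] :
    u ∈ weakAss B (B ⊗[A] M) ↔ p ∈ weakAss A M := by
  obtain ⟨f, hf, hstd⟩ := Algebra.IsEtaleAt.exists_isStandardEtale (R := A) u
  obtain ⟨⟨P⟩⟩ := hstd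
  let L := Localization.Away f
  have hdis : Disjoint (Submonoid.powers f : Set B) (u : Set B) := by
    rw [Set.disjoint_left]
    rintro _ ⟨n, rfl⟩ h
    exact hf (‹u.IsPrime›.mem_of_pow_mem n h)
  rw [mem_weakAss_tensor_localization (L := L) (Submonoid.powers f) u hdis]
  haveI hu1 : (u.map (algebraMap B L)).IsPrime :=
    IsLocalization.isPrime_of_isPrime_disjoint (Submonoid.powers f) L u ‹_› hdis
  have hcomap : (u.map (algebraMap B L)).comap (algebraMap B L) = u :=
    IsLocalization.comap_map_of_isPrime_disjoint (Submonoid.powers f) L ‹_› hdis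
  generalize u.map (algebraMap B L) = v at hu1 hcomap
  let C := AdjoinRoot P.P.f
  let e := P.equivRing.trans P.P.equivAwayAdjoinRoot
  let φ : C →ₐ[A] L :=
    e.symm.toAlgHom.comp (IsScalarTower.toAlgHom A C (Localization.Away (AdjoinRoot.mk P.P.f P.P.g)))
  letI : Algebra C L := φ.toRingHom.toAlgebra
  haveI : IsScalarTower A C L := IsScalarTower.of_algHom φ
  haveI : IsLocalization (Submonoid.powers (AdjoinRoot.mk P.P.f P.P.g)) L :=
    IsLocalization.isLocalization_of_algEquiv _
      ({ e.symm.toRingEquiv with commutes' := fun c => rfl } :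
        Localization.Away (AdjoinRoot.mk P.P.f P.P.g) ≃ₐ[C] L)
  haveI : Module.Finite A C := P.P.monic_f.finite_adjoinRoot
  haveI : Module.Free A C := P.P.monic_f.free_adjoinRoot
  haveI : (v.comap (algebraMap C L)).IsPrime := hu1.comap _
  haveI : (v.comap (algebraMap C L)).LiesOver p := ⟨by
    rw [Ideal.under_def, Ideal.comap_comap, ← IsScalarTower.algebraMap_eq,
      IsScalarTower.algebraMap_eq A B L, ← Ideal.comap_comap, hcomap]
    exact u.over_def p⟩
  rw [← mem_weakAss_iff_of_finite_flat (B := C) p (v.comap (algebraMap C L)),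
    mem_weakAss_tensor_localization (L := L) (Submonoid.powers (AdjoinRoot.mk P.P.f P.P.g))
      (v.comap (algebraMap C L)) (by
        rw [Set.disjoint_left]
        intro c hc hcv
        exact hu1.ne_top (Ideal.eq_top_of_isUnit_mem _ hcv (IsLocalization.map_units L ⟨c, hc⟩))),
    IsLocalization.map_comap (Submonoid.powers (AdjoinRoot.mk P.P.f P.P.g))]

end Groth.Agent.WeakAssFlat
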