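import Groth.Agent.WeakAssFlat.Etale
import Groth.Agent.HenselLib.HenselizationLocal
import Groth.Agent.HenselLib.HenselizationProps
import Groth.Agent.HenselLib.FlatPoint

/-!
# Weakly associated primes and henselization
-/

set_option autoImplicit false
universe u
open TensorProduct FlatCA IsLocalRing

namespace Groth.Agent.WeakAssFlat

variable {R : Type u} [CommRing R] {M : Type u} [AddCommGroup M] [Module R M]

theorem weakAss_of_flat_local {C H : Type u} [CommRing C] [CommRing H] [IsLocalRing H] [Algebra R C]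
    [Algebra R H] [Algebra C H] [IsScalarTower R C H] [Module.Flat C H] (w : C ⊗[R] M)
    (hH : maximalIdeal H ∈ weakAss H (H ⊗[R] M))
    (hz : ∀ (z : H ⊗[R] M), z = TensorProduct.AlgebraTensorModule.cancelBaseChange R C H H M (1 ⊗ₜ w) →
      (∀ r : H, r • z = 0 → r ∈ maximalIdeal H) ∧
        ∀ r ∈ maximalIdeal H, ∃ s ∉ maximalIdeal H, ∃ n : ℕ, s • r ^ n • z = 0) :
    (maximalIdeal H).comap (algebraMap C H) ∈ weakAss C (C ⊗[R] M) := by
  set u := (maximalIdeal H).comap (algebraMap C H)
  obtain ⟨h1, h2⟩ := hz _ rfl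
  have hzero : ∀ v : C, algebraMap C H v •
      TensorProduct.AlgebraTensorModule.cancelBaseChange R C H H M (1 ⊗ₜ w) = 0 →
      ∃ s ∉ u, s • v • w = 0 := by
    intro v hv
    rw [← map_smul, LinearEquiv.map_eq_zero_iff, algebraMap_smul, ← tmul_smul] at hv
    obtain ⟨k, a, y, hy, ha⟩ := vanishesTrivially_of_flat (fun _ : Fin 1 => (1 : H))
      (fun _ => v • w) (by rw [Fin.sum_univ_one]; exact hv)
    by_contra hne
    push_neg at hne
    refine (maximalIdeal.isMaximal H).ne_top ((Ideal.eq_top_iff_one _).2 ?_)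
    rw [show (1 : H) = ∑ j, a 0 j • y j from hy 0]
    refine sum_mem fun j _ => ?_
    rw [Algebra.smul_def]
    refine Ideal.mul_mem_right _ _ ?_
    by_contra hju
    exact hne _ hju (by simpa using ha j)
  refine WeakAss.mem_weakAss_iff.2 ⟨(maximalIdeal.isMaximal H).isPrime.comap _, w, fun r hr => ?_,
    fun r hr => ?_⟩
  · refine h1 _ ?_
    rw [← map_smul, algebraMap_smul, ← tmul_smul, hr, tmul_zero, map_zero]
  · obtain ⟨s, hs, n, hn⟩ := h2 _ hr
    obtain ⟨t, ht, h0⟩ := hzero (r ^ n) (by
      rw [map_pow]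
      exact (IsUnit.smul_eq_zero (IsLocalRing.notMem_maximalIdeal.1 hs)).1 hn)
    exact ⟨t, ht, n, h0⟩

variable {K : Type u} [Field K] [Algebra R K] {H : Type u} [CommRing H] [Algebra R H]
  {ρ : H →ₐ[R] K}

theorem maximalIdeal_mem_weakAss_iff_of_colim [IsLocalRing R] [IsLocalRing H]
    (h : HenselLib.IsNbhdColim R K H ρ) (hm : ∀ r ∈ maximalIdeal R, algebraMap R K r = 0) :
    maximalIdeal H ∈ weakAss H (H ⊗[R] M) ↔ maximalIdeal R ∈ weakAss R M := by
  classical
  haveI := h.isLocalHom hm
  haveI := h.flat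
  haveI : (maximalIdeal H).LiesOver (maximalIdeal R) :=
    ⟨(maximalIdeal.isMaximal R).eq_of_le
      (Ideal.comap_ne_top _ (maximalIdeal.isMaximal H).ne_top) fun r hr => map_nonunit _ r hr⟩
  refine ⟨fun hH => ?_, fun hR => mem_weakAss_tensor_of_mem (maximalIdeal R) _
    (fun q _ hle _ => (h.map_maximalIdeal hm).symm.le.trans hle) hR⟩
  obtain ⟨-, z, h1, h2⟩ := WeakAss.mem_weakAss_iff.1 hH
  obtain ⟨s, hs⟩ := TensorProduct.exists_finset z
  obtain ⟨C, _, _, _, τ, hτ⟩ := h.common_rep (s.image Prod.fst)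
  choose! c hc using fun x (hx : x ∈ s.image Prod.fst) => hτ x hx
  letI : Algebra C H := τ.toRingHom.toAlgebra
  haveI : IsScalarTower R C H := IsScalarTower.of_algHom τ
  haveI : Module.Flat C H := HenselLib.flat_of_point (R := R)
  have hu := weakAss_of_flat_local (∑ i ∈ s, c i.1 ⊗ₜ[R] i.2 : C ⊗[R] M) hH (fun z' hz' => by
    have : z' = z := by
      rw [hz', tmul_sum, map_sum, hs]
      refine Finset.sum_congr rfl fun i hi => ?_
      rw [TensorProduct.AlgebraTensorModule.cancelBaseChange_tmul]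
      rw [Algebra.smul_def, mul_one]
      exact congrArg (· ⊗ₜ i.2) (hc _ (Finset.mem_image_of_mem _ hi))
    subst this
    exact ⟨h1, h2⟩)
  haveI : ((maximalIdeal H).comap (algebraMap C H)).IsPrime :=
    (maximalIdeal.isMaximal H).isPrime.comap _
  haveI : ((maximalIdeal H).comap (algebraMap C H)).LiesOver (maximalIdeal R) := ⟨by
    rw [Ideal.under_def, Ideal.comap_comap, ← IsScalarTower.algebraMap_eq]
    exact (maximalIdeal H).over_def (maximalIdeal R)⟩
  exact (mem_weakAss_iff_of_etale (B := C) (maximalIdeal R) _).1 hu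

theorem weakAss_tfae {A : Type u} [CommRing A] (M : Type u) [AddCommGroup M] [Module A M]
    (p : Ideal A) [p.IsPrime] (Ah Ash : Type u) [CommRing Ah] [IsLocalRing Ah] [CommRing Ash]
    [IsLocalRing Ash] [Algebra (Localization.AtPrime p) Ah]
    [IsLocalHom (algebraMap (Localization.AtPrime p) Ah)]
    [Hensel.IsHenselization (Localization.AtPrime p) Ah] [Algebra (Localization.AtPrime p) Ash]
    [IsLocalHom (algebraMap (Localization.AtPrime p) Ash)]
    [Hensel.IsStrictHenselization (Localization.AtPrime p) Ash] :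
    [p ∈ FlatCA.weakAss A M,
     maximalIdeal (Localization.AtPrime p) ∈ FlatCA.weakAss (Localization.AtPrime p) (LocalizedModule p.primeCompl M),
     maximalIdeal Ah ∈ FlatCA.weakAss Ah (Ah ⊗[Localization.AtPrime p] LocalizedModule p.primeCompl M),
     maximalIdeal Ash ∈ FlatCA.weakAss Ash (Ash ⊗[Localization.AtPrime p] LocalizedModule p.primeCompl M)].TFAE := by
  obtain ⟨ρ, hρ⟩ := HenselLib.exists_colim_of_isHenselization (Localization.AtPrime p) Ah
  have hρ' := HenselLib.exists_colim_of_isStrictHenselization (Localization.AtPrime p) Ash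
  have e23 := maximalIdeal_mem_weakAss_iff_of_colim (M := LocalizedModule p.primeCompl M) hρ
    (fun r hr => by simpa using hr)
  have e24 := maximalIdeal_mem_weakAss_iff_of_colim (M := LocalizedModule p.primeCompl M) hρ'
    (fun r hr => by
      rw [IsScalarTower.algebraMap_apply (Localization.AtPrime p) Ash (ResidueField Ash)]
      exact (residue_eq_zero_iff _).2 (map_nonunit _ _ hr))
  have e12 := WeakAss.mem_weakAss_iff_map_mem p.primeCompl
    (LocalizedModule.mkLinearMap p.primeCompl M) (A := Localization.AtPrime p) ‹p.IsPrime› (by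
      rw [Set.disjoint_left]; exact fun _ h h' => h h')
  rw [Localization.AtPrime.map_eq_maximalIdeal] at e12
  tfae_have 1 ↔ 2 := e12
  tfae_have 3 ↔ 2 := e23
  tfae_have 4 ↔ 2 := e24
  tfae_finish

end Groth.Agent.WeakAssFlat
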